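import Groth.Agent.Lib.GaPts.Basic
import Mathlib.FieldTheory.IsAlgClosed.AlgebraicClosure
import Mathlib.Algebra.Polynomial.Degree.Lemmas
import Mathlib.Algebra.Polynomial.Roots

/-!
# Group laws on the affine line
-/

set_option autoImplicit false
set_option linter.style.haveILetI false
universe u

open CategoryTheory CategoryTheory.Limits MonoidalCategory CartesianMonoidalCategory MonObj AlgebraicGeometry Polynomial

noncomputable section

namespace Groth.Agent.GaLaw19

/-- A natural binary operation on a field's algebras with unit and invertible translations is a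
translate of addition. -/
theorem op_eq {k : Type u} [Field k] (F : ∀ (R : Type u) [CommRing R] [Algebra k R], R → R → R)
    (nat : ∀ (R S : Type u) [CommRing R] [Algebra k R] [CommRing S] [Algebra k S] (φ : R →ₐ[k] S) (a b : R),
      φ (F R a b) = F S (φ a) (φ b)) (e : k)
    (hr : ∀ (R : Type u) [CommRing R] [Algebra k R] (a : R), F R a (algebraMap k R e) = a)
    (hl : ∀ (R : Type u) [CommRing R] [Algebra k R] (b : R), F R (algebraMap k R e) b = b)
    (hinv : ∀ (R : Type u) [CommRing R] [Algebra k R] (b : R), Function.Surjective (fun a => F R a b))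
    (R : Type u) [CommRing R] [Algebra k R] (a b : R) : F R a b = a + b - algebraMap k R e := by
  let f : (k[X])[X] := F ((k[X])[X]) X (C X)
  let ev : ∀ {S : Type u} [CommRing S] [Algebra k S] (x y : S), (k[X])[X] →ₐ[k] S := fun {S} _ _ x y =>
    Polynomial.eval₂AlgHom (aeval y) x (fun _ => mul_comm _ _)
  have hevX : ∀ {S : Type u} [CommRing S] [Algebra k S] (x y : S), ev x y X = x := fun x y => eval₂_X _ _
  have hevC : ∀ {S : Type u} [CommRing S] [Algebra k S] (x y : S) (p : k[X]), ev x y (C p) = aeval y p :=
    fun x y p => eval₂_C _ _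
  have hF : ∀ {S : Type u} [CommRing S] [Algebra k S] (x y : S), F S x y = ev x y f := by
    intro S _ _ x y
    rw [nat _ _ (ev x y) X (C X), hevX, hevC, aeval_X]
  let K := AlgebraicClosure k
  let p : K → K[X] := fun β => f.map (aeval β).toRingHom
  have hp : ∀ β : K, p β = F K[X] X (C β) := by
    intro β
    rw [hF]
    change f.map (aeval β).toRingHom = f.eval₂ (aeval (C β : K[X])).toRingHom X
    rw [Polynomial.map]
    congr 1
    exact RingHom.ext fun q => (aeval_algHom_apply (CAlgHom (R := K) |>.restrictScalars k) β q).symm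
  have hcomp : ∀ (β : K) (q : K[X]), (p β).comp q = F K[X] q (C β) := by
    intro β q
    rw [hp, comp_eq_aeval]
    have := nat K[X] K[X] ((aeval q : K[X] →ₐ[K] K[X]).restrictScalars k) X (C β)
    simp only [AlgHom.restrictScalars_apply, aeval_X, aeval_C] at this
    exact this
  have hdeg : ∀ β : K, (p β).natDegree = 1 := by
    intro β
    obtain ⟨q, hq⟩ := hinv K[X] (C β) X
    have h := congrArg natDegree (hcomp β q)
    rw [natDegree_comp, show F K[X] q (C β) = X from hq, natDegree_X] at h
    exact Nat.eq_one_of_mul_eq_one_right h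
  have hcoeff : ∀ (i : ℕ) (β : K), (p β).coeff i = aeval β (f.coeff i) := fun i β => by
    simp [p, coeff_map]
  have hzero : ∀ i, 2 ≤ i → f.coeff i = 0 := by
    intro i hi
    have h0 : (f.coeff i).map (algebraMap k K) = 0 := by
      refine Polynomial.funext fun β => ?_
      rw [eval_zero, eval_map_algebraMap, ← hcoeff]
      exact coeff_eq_zero_of_natDegree_lt (by rw [hdeg]; omega)
    exact (Polynomial.map_eq_zero (algebraMap k K)).1 h0
  obtain ⟨c, hc⟩ : ∃ c : k, f.coeff 1 = C c := by
    refine ⟨(f.coeff 1).coeff 0, eq_C_of_natDegree_eq_zero ?_⟩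
    by_contra hn
    obtain ⟨β, hβ⟩ := IsAlgClosed.exists_aeval_eq_zero K (f.coeff 1)
      (fun h => hn (natDegree_eq_of_degree_eq_some h))
    have := hdeg β
    have h1 : (p β).coeff 1 ≠ 0 := by
      rw [← this]
      exact leadingCoeff_ne_zero.2 (fun h0 => by rw [h0, natDegree_zero] at this; omega)
    exact h1 (by rw [hcoeff, hβ])
  have hf : f = C (C c) * X + C (f.coeff 0) := by
    refine Polynomial.ext fun i => ?_
    rcases i with _ | _ | i
    · simp
    · simp [hc]
    · simp [hzero (i + 2) (by omega)]
  have hall : ∀ {S : Type u} [CommRing S] [Algebra k S] (x y : S),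
      F S x y = algebraMap k S c * x + aeval y (f.coeff 0) := by
    intro S _ _ x y
    rw [hF, hf, map_add, map_mul, hevX, hevC, hevC, aeval_C]
    simp
  have hc0 : aeval b (f.coeff 0) = b - algebraMap k R c * algebraMap k R e := by
    have := hl R b
    rw [hall] at this
    linear_combination this
  have hc1 : c = 1 := by
    have h1 := hl k[X] X
    have h2 := hr k[X] X
    have h3 := hl k[X] (algebraMap k k[X] e)
    rw [hall] at h1 h2 h3
    have : algebraMap k k[X] c * (X - algebraMap k k[X] e) = (X - algebraMap k k[X] e) := by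
      linear_combination h2 - h3
    have := congrArg (fun q => q.coeff 1) this
    simpa using this
  rw [hall, hc0, hc1, map_one]
  ring

end Groth.Agent.GaLaw19
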